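import Cfsg.Agent.Lib.InvChar.CosetCert

/-! Coset enumeration certificate SzB for a presented sporadic group. -/

set_option autoImplicit false
set_option maxRecDepth 100000

namespace CfsgLib.InvChar.Coset.SzB

/-- facts -/
noncomputable def facts : Tr := (.leaf 0x1810001900019000017000180000160001710001500016100014000150000130001400001200013100011000121000100001100000f0001000000e0000f10000d0000e10000c0000d00000b0000c00000a0000b1000090000a100008000090000070000800000600007100005000061000040000500000300004000002000031000010000210000000001000000)
/-- justifications -/
noncomputable def just : Tr := (.leaf 0x60000580005000048000400003800030000280002000018000100000800000000040000c000140001c000240002c000340003c000440004c000540005d0002001018)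
/-- relators -/
def rels : List (List ℕ) := [[0, 0], [1, 1], [0, 1, 0, 1, 0, 1, 0, 1, 0, 1, 0, 1, 0, 1, 0, 1, 0, 1, 0, 1, 0, 1, 0, 1, 0, 1]]
/-- subgroup words -/
def subs : List (List ℕ) := []
/-- the letters, as letters of the whole group -/
def emb : List ℕ := [0, 1]
/-- certificate -/
noncomputable def cert : Cert := ⟨2, 26, 25, facts, just, rels, subs⟩
/-- table -/
noncomputable def permTable : Tr := (.leaf 0x18000170001900016000150001900014000180001700013000160001200011000150001000014000130000f000120000e0000d000110000c000100000f0000b0000e0000a000090000d000080000c0000b000070000a0000600005000090000400008000070000300006000020000100005000000000400003000000000200001)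
/-- node of a coset -/
noncomputable def live : Tr := (.leaf 0x190001800017000160001500014000130001200011000100000f0000e0000d0000c0000b0000a00009000080000700006000050000400003000020000100000)
/-- fact of an entry -/
noncomputable def fin : Tr := (.leaf 0x190001800019000170001600018000150001700016000140001500013000120001400011000130001200010000110000f0000e000100000d0000f0000e0000c0000d0000b0000a0000c000090000b0000a00008000090000700006000080000500007000060000400005000030000200004000010000300002000000000100000)
/-- table -/
noncomputable def table : Table := ⟨26, 2, permTable⟩

end CfsgLib.InvChar.Coset.SzB
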